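import Mathlib
import Cfsg.Agent.H375.Out.Def
import Cfsg.Agent.H373.Recog
import Cfsg.Agent.ClassicalGeometry.OrthSemiForms
import Cfsg.Agent.AutOrth.Final

/-!
# `AutOk (POmega F Q)` from `OutOk Q` (helper375)
-/

set_option autoImplicit false
set_option linter.unusedVariables false
set_option linter.unusedSectionVars false

namespace Cfsg.Agent.H375.Out

open Module Finset QuadraticMap Cfsg Cfsg.Agent.H375.Odd
open Cfsg.Agent.LieClassical.OrthCount Cfsg.Agent.LieClassical.OmegaReindex Cfsg.Agent.LieClassical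
open Cfsg.Agent.LieClassical.OrthTrans Cfsg.Agent.LieClassical.OrthFinite Cfsg.Agent.LieClassical.OrthCore
open Cfsg.Agent.ClassicalGeometry Cfsg.Agent.ClassicalGeometry.OrthSemi Cfsg.Agent.ClassicalGeometry.OrthSemiForms

/-- `AutOk` is invariant under isomorphisms. -/
theorem autOk_congr {L L' : Type*} [Group L] [Group L'] (e : L ≃* L') (h : H373.Recog.AutOk L) : H373.Recog.AutOk L' := by
  intro A hA hω
  have hc : ∀ x : L', (MulAut.congr e).symm (MulAut.conj x) = MulAut.conj (e.symm x) := by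
    intro x
    ext y
    show e.symm (x * e y * x⁻¹) = e.symm x * y * (e.symm x)⁻¹
    rw [map_mul, map_mul, map_inv, e.symm_apply_apply]
  have h1 := h (A.map (MulAut.congr e).symm.toMonoidHom) (by
    rintro _ ⟨x, rfl⟩
    refine ⟨MulAut.conj (e x), hA ⟨_, rfl⟩, ?_⟩
    show (MulAut.congr e).symm (MulAut.conj (e x)) = _
    rw [hc, e.symm_apply_apply]) (by
    rintro _ ⟨a, ha, rfl⟩
    obtain ⟨y, hy⟩ := hω a ha
    refine ⟨e.symm y, ?_⟩
    rw [MulEquiv.orderOf_eq, hy]
    exact (MulEquiv.orderOf_eq (MulAut.congr e).symm a).symm)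
  intro a ha
  obtain ⟨x, hx⟩ := h1 ⟨a, ha, rfl⟩
  refine ⟨e x, ?_⟩
  apply (MulAut.congr e).symm.injective
  rw [hc, e.symm_apply_apply]
  exact hx

variable {F : Type*} [Field F] [Fintype F] [CharP F 2] {ι : Type} [Fintype ι] [DecidableEq ι]
  {Q : QuadraticForm F (ι → F)}

theorem isoL_eq : isoL Q = isometryHom Q := by
  ext X v
  rfl

theorem Om_eq (hG : Good Q) : Om Q = E Q := by
  rw [← hG.commutator_eq_E, ← map_Omega, Om, isoL_eq]

/-- Linear isometries as elements of `Gam Q`. -/
def lg {g : (ι → F) ≃ₗ[F] (ι → F)} (hg : g ∈ E Q) : Gam Q :=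
  ⟨lp F (ι → F) g, RingEquiv.refl F, 1, ⟨one_ne_zero, fun u v => map_add g u v, fun a v => map_smul g a v, fun v => by
    rw [one_mul]
    exact E_le_O hg v⟩⟩

theorem Psi_lg {g : (ι → F) ≃ₗ[F] (ι → F)} (hg : g ∈ E Q) :
    Psi Q (lg hg) = MulAut.conj (QuotientGroup.mk ⟨g, hg⟩ : ↥(E Q) ⧸ Subgroup.center ↥(E Q)) := by
  ext x
  induction x using QuotientGroup.induction_on with
  | H h =>
    rw [Psi_mk, MulAut.conj_apply]
    have : conjE Q (lg hg) h = ⟨g, hg⟩ * h * ⟨g, hg⟩⁻¹ := by
      apply Subtype.ext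
      rw [coe_conjE]
      ext1 v
      rfl
    rw [this]
    rfl

theorem isSS_scal (a : Fˣ) : IsSS Q (RingEquiv.refl F) ((a : F) * a) (scal Q a).1 := by
  refine ⟨mul_ne_zero a.ne_zero a.ne_zero, fun u v => (by rw [scal_apply, scal_apply, scal_apply, smul_add]), fun b v => ?_, fun v => ?_⟩
  · rw [scal_apply, scal_apply, smul_comm]
    rfl
  · rw [scal_apply, QuadraticMap.map_smul, smul_eq_mul]
    rfl

theorem autOk_P (hG : Good Q) (hsurj : Function.Surjective (Psi Q)) (H : OutOk Q)
    (hE : ∀ y : ↥(E Q) ⧸ Subgroup.center ↥(E Q), ∃ g ∈ Om Q, orderOf g = orderOf y) :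
    H373.Recog.AutOk (↥(E Q) ⧸ Subgroup.center ↥(E Q)) := by
  classical
  intro A hA hω α hα
  set X : Subgroup (Equiv.Perm (ι → F)) := (A.comap (Psi Q)).map (Gam Q).subtype ⊓ GI Q with hX
  have hXh : Hyp Q X := by
    refine ⟨?_, inf_le_right, ?_⟩
    · rintro _ ⟨g, hg, rfl⟩
      have hg' : g ∈ E Q := by rw [← Om_eq hG]; exact hg
      refine ⟨⟨lg hg', ?_, rfl⟩, RingEquiv.refl F, ⟨one_ne_zero, fun u v => map_add g u v, fun a v => map_smul g a v,
        fun v => by
          rw [one_mul]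
          exact E_le_O hg' v⟩⟩
      show Psi Q _ ∈ A
      rw [Psi_lg]
      exact hA ⟨_, rfl⟩
    · rintro x ⟨⟨g, hg, rfl⟩, hx⟩
      have hgo : orderOf (Psi Q g) = orderOf g := by
        rw [orderOf_eq_orderOf_iff]
        intro k
        rw [← map_pow]
        constructor
        · intro h
          have h0 : g ^ k ∈ (Psi Q).ker := h
          rw [ker_Psi hG] at h0
          obtain ⟨a, ha⟩ := h0
          have hx' : (g ^ k).1 ∈ GI Q := by
            have := (GI Q).pow_mem hx k
            exact this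
          obtain ⟨σ, hσ⟩ := hx'
          rw [← ha] at hσ
          obtain ⟨u, v, huv⟩ := hG.exists_hyp
          have h1 := hσ.polar u v
          have h2 := (isSS_scal (Q := Q) a).polar u v
          rw [h2, huv.pair] at h1
          have h3 : (a : F) * a = 1 := by
            have e1 : (RingEquiv.refl F) (1 : F) = 1 := rfl
            rw [e1, map_one, mul_one, mul_one] at h1
            exact h1
          have h4 : (a : F) = 1 := by
            have h5 : ((a : F) - 1) * ((a : F) - 1) = 0 := by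
              have h2 : (2 : F) = 0 := CharTwo.two_eq_zero
              linear_combination h3 + (1 - (a : F)) * h2
            exact sub_eq_zero.1 (mul_self_eq_zero.1 h5)
          rw [← ha, show a = 1 from Units.ext h4, map_one]
        · intro h
          rw [h, map_one]
      obtain ⟨y, hy⟩ := hω _ hg
      obtain ⟨z, hz, hzo⟩ := hE y
      refine ⟨z, hz, ?_⟩
      rw [hzo, hy, hgo]
      exact (orderOf_injective (Gam Q).subtype Subtype.val_injective g).symm
  have hX2 := H X hXh
  obtain ⟨g, rfl⟩ := hsurj α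
  obtain ⟨φ, l, hs⟩ := id g.2
  obtain ⟨d, hd⟩ := FiniteField.isSquare_of_char_two (F := F) (ringChar.eq F 2) l
  have hd0 : d ≠ 0 := by
    rintro rfl
    rw [mul_zero] at hd
    exact hs.ne hd
  let a : Fˣ := (Units.mk0 d hd0)⁻¹
  have ha : (a : F) * a * l = 1 := by
    show d⁻¹ * d⁻¹ * l = 1
    rw [hd]
    field_simp
  have hg' : (scal Q a).1 * g.1 ∈ GI Q := by
    refine ⟨φ, ?_⟩
    have h1 := (isSS_scal (Q := Q) a).mul hs
    have e : (a : F) * a * (RingEquiv.refl F) l = 1 := ha
    rw [e] at h1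
    exact h1
  have hPsi : Psi Q (scal Q a * g) = Psi Q g := by
    have : scal Q a ∈ (Psi Q).ker := by
      rw [ker_Psi hG]
      exact ⟨a, rfl⟩
    rw [map_mul, MonoidHom.mem_ker.1 this, one_mul]
  have hmem : (scal Q a * g).1 ∈ X := by
    refine ⟨⟨scal Q a * g, ?_, rfl⟩, hg'⟩
    show Psi Q _ ∈ A
    rw [hPsi]
    exact hα
  obtain ⟨k, hk, hkg⟩ := hX2 hmem
  have hk' : k ∈ E Q := by rw [← Om_eq hG]; exact hk
  have hfin : scal Q a * g = lg hk' := Subtype.ext hkg.symm
  rw [← hPsi, hfin, Psi_lg]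
  exact ⟨_, rfl⟩

/-- **The link.** -/
theorem autOk_pomega (hD : H390.Lift.Data Q) (hG : Good Q) (hsurj : Function.Surjective (Psi Q)) (H : OutOk Q) :
    H373.Recog.AutOk (POmega F ⇑Q) := by
  refine autOk_congr (pomegaEquiv hG).symm (autOk_P hG hsurj H ?_)
  intro y
  refine ⟨isoL Q (pomE hD ((pomegaEquiv hG).symm y) : Cfsg.Omega F (⇑Q)), ⟨_, (pomE hD ((pomegaEquiv hG).symm y)).2, rfl⟩, ?_⟩
  rw [orderOf_injective _ isoL_injective, Subgroup.orderOf_coe, MulEquiv.orderOf_eq, MulEquiv.orderOf_eq]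

theorem plus_eq (n : ℕ) (F : Type*) [Field F] : LieClassical.OrthForms.plusForm n F = quadPlus n F :=
  DFunLike.coe_injective ((LieClassical.OrthForms.coe_plusForm n F).trans (coe_quadPlus n F).symm)

theorem minus_eq (n : ℕ) (F : Type*) [Field F] (a b : F) : LieClassical.OrthForms.minusForm n F a b = quadMinus n F a b :=
  DFunLike.coe_injective ((LieClassical.OrthForms.coe_minusForm n F a b).trans (coe_quadMinus n F a b).symm)

theorem autOk_plus {n : ℕ} (hn : 5 ≤ n) (H : OutOk (quadPlus n F)) : H373.Recog.AutOk (POmega F (quadFormPlus n F)) := by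
  have hD : H390.Lift.Data (quadPlus n F) :=
    data_two quadPlus_nondegenerate (by simp only [Fintype.card_sum, Fintype.card_fin]; omega) (quadPlus_isotropic (by omega))
  have hs := AutOrth.Final.surjective_plus (F := F) hn
  have hG : Good (quadPlus n F) := by
    rw [← plus_eq, AutOrth.Main.plusForm_eq]
    exact AutOrth.Main.good_plus (by omega)
  rw [plus_eq] at hs
  rw [← coe_quadPlus]
  exact autOk_pomega hD hG hs H

theorem autOk_minus {n : ℕ} (hn : 4 ≤ n) {a b : F}
    (hab : ∀ z₁ z₂ : F, z₁ ^ 2 + a * z₁ * z₂ + b * z₂ ^ 2 = 0 → z₁ = 0 ∧ z₂ = 0)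
    (H : OutOk (quadMinus (n - 1) F a b)) : H373.Recog.AutOk (POmega F (quadFormMinus (n - 1) F a b)) := by
  have hD : H390.Lift.Data (quadMinus (n - 1) F a b) :=
    data_two (quadMinus_nondegenerate hab) (by simp only [Fintype.card_sum, Fintype.card_fin]; omega)
      (quadMinus_isotropic (by omega) a b)
  have hs := AutOrth.Final.surjective_minus (F := F) (m := n - 1) (by omega) hab
  have hG : Good (quadMinus (n - 1) F a b) := by
    rw [← minus_eq, AutOrth.Main.minusForm_eq]
    exact AutOrth.Main.good_minus (by omega) hab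
  rw [minus_eq] at hs
  rw [← coe_quadMinus]
  exact autOk_pomega hD hG hs H

end Cfsg.Agent.H375.Out
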