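import Mathlib
import Cfsg.Agent.H375.Out.OmLink
import Cfsg.Agent.H375.Out.Fix
import Cfsg.Agent.H231.OutB4

/-!
# Base change of isometry groups; the reduction of `OutOk` to field automorphisms (helper375)
-/

set_option autoImplicit false
set_option linter.unusedVariables false
set_option linter.unusedSectionVars false

namespace Cfsg.Agent.H375.Out

open Module Finset QuadraticMap Cfsg Cfsg.Agent.H375.Odd
open Cfsg.Agent.LieClassical.OrthCount Cfsg.Agent.LieClassical.OmegaReindex Cfsg.Agent.LieClassical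
open Cfsg.Agent.LieClassical.OrthTrans Cfsg.Agent.LieClassical.OrthFinite Cfsg.Agent.LieClassical.OrthCore
open Cfsg.Agent.ClassicalGeometry Cfsg.Agent.ClassicalGeometry.OrthSemi

variable {F : Type*} [Field F] {ι : Type} [Fintype ι] [DecidableEq ι]

theorem ext_zero {σ : F →+* F} (D : (ι → F) → F) (hadd : ∀ u v, D (u + v) = D u + D v)
    (hsm : ∀ (a : F) v, D (a • v) = σ a * σ a * D v) (h0 : ∀ i, D (Pi.single i 1) = 0) (v : ι → F) : D v = 0 := by
  let D' : (ι → F) →+ F := AddMonoidHom.mk' D hadd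
  have hv : v = ∑ i, v i • (Pi.single i 1 : ι → F) := by
    conv_lhs => rw [← Finset.univ_sum_single v]
    refine Finset.sum_congr rfl fun i _ => ?_
    funext j
    rw [Pi.smul_apply, Pi.single_apply, Pi.single_apply, smul_eq_mul]
    split_ifs
    · rw [mul_one]
    · rw [mul_zero]
  have h1 : D' v = ∑ i, D' (v i • (Pi.single i 1 : ι → F)) := by
    conv_lhs => rw [hv]
    rw [map_sum]
  show D' v = 0
  rw [h1]
  apply Finset.sum_eq_zero
  intro i _
  show D (v i • Pi.single i 1) = 0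
  rw [hsm, h0, mul_zero]

variable {K : Subfield F} {Q : QuadraticForm F (ι → F)} {Q' : QuadraticForm K (ι → K)}

/-- Extension of scalars of vectors. -/
def up (K : Subfield F) (v : ι → K) : ι → F := fun i => (v i : F)

/-- `Q` is the extension of `Q'`. -/
def Ext (Q : QuadraticForm F (ι → F)) (Q' : QuadraticForm K (ι → K)) : Prop := ∀ v, Q (up K v) = (Q' v : F)

theorem up_single (K : Subfield F) (i : ι) : up K (Pi.single i 1 : ι → K) = Pi.single i 1 := by
  funext j
  rw [up, Pi.single_apply, Pi.single_apply]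
  split_ifs <;> rfl

theorem Ext.polar (h : Ext Q Q') (u v : ι → K) : QuadraticMap.polar Q (up K u) (up K v) = ((QuadraticMap.polar Q' u v : K) : F) := by
  simp only [QuadraticMap.polar]
  rw [Subfield.coe_sub, Subfield.coe_sub, ← h, ← h, ← h]
  rfl

theorem up_mulVec (M : Matrix ι ι K) (v : ι → K) : (M.map K.subtype).mulVec (up K v) = up K (M.mulVec v) := by
  funext i
  show ∑ j, (M i j : F) * (v j : F) = ((∑ j, M i j * v j : K) : F)
  push_cast
  rfl

theorem polar_mulVec (h : Ext Q Q') {M : Matrix ι ι K} (hM : ∀ v, Q' (M.mulVec v) = Q' v) (u v : ι → F) :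
    QuadraticMap.polar Q ((M.map K.subtype).mulVec u) ((M.map K.subtype).mulVec v) = QuadraticMap.polar Q u v := by
  have h1 : (polarBilin Q).compl₁₂ (Matrix.mulVecLin (M.map K.subtype)) (Matrix.mulVecLin (M.map K.subtype)) = polarBilin Q := by
    refine LinearMap.pi_ext' fun i => LinearMap.ext_ring (LinearMap.pi_ext' fun j => LinearMap.ext_ring ?_)
    show QuadraticMap.polar Q ((M.map K.subtype).mulVec (Pi.single i 1)) ((M.map K.subtype).mulVec (Pi.single j 1)) =
      QuadraticMap.polar Q (Pi.single i 1) (Pi.single j 1)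
    rw [← up_single K i, ← up_single K j, up_mulVec, up_mulVec, h.polar, h.polar]
    congr 1
    simp only [QuadraticMap.polar]
    rw [← Matrix.mulVec_add, hM, hM, hM]
  exact LinearMap.congr_fun (LinearMap.congr_fun h1 u) v

theorem ext_mulVec (h : Ext Q Q') {M : Matrix ι ι K} (hM : ∀ v, Q' (M.mulVec v) = Q' v) (v : ι → F) :
    Q ((M.map K.subtype).mulVec v) = Q v := by
  rw [← sub_eq_zero]
  refine ext_zero (σ := RingHom.id F) (fun v => Q ((M.map K.subtype).mulVec v) - Q v) ?_ ?_ ?_ v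
  · intro u v
    have h1 := polar_mulVec h hM u v
    simp only [QuadraticMap.polar, ← Matrix.mulVec_add] at h1
    linear_combination h1
  · intro a v
    show Q ((M.map K.subtype).mulVec (a • v)) - Q (a • v) = a * a * _
    rw [Matrix.mulVec_smul, QuadraticMap.map_smul, QuadraticMap.map_smul]
    simp only [smul_eq_mul]
    ring
  · intro i
    show Q ((M.map K.subtype).mulVec (Pi.single i 1)) - Q (Pi.single i 1) = 0
    rw [← up_single K, up_mulVec, h, h, hM, sub_self]

/-- Base change of isometries. -/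
noncomputable def bc (h : Ext Q Q') : Cfsg.isometryGroup K ⇑Q' →* Cfsg.isometryGroup F ⇑Q :=
  MonoidHom.codRestrict ((Matrix.GeneralLinearGroup.map K.subtype).comp (Cfsg.isometryGroup K ⇑Q').subtype) _
    (fun M u _ => ext_mulVec h (fun v => M.2 v v) u)

theorem bc_injective (h : Ext Q Q') : Function.Injective (bc h) := by
  intro A B hAB
  apply Subtype.ext
  apply Units.ext
  ext i j
  exact congrFun (congrFun (congrArg (fun M : Cfsg.isometryGroup F ⇑Q => (M.1.1 : Matrix ι ι F)) hAB) i) j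

theorem bc_mem (h : Ext Q Q') {M : Cfsg.isometryGroup K ⇑Q'} (hM : M ∈ Cfsg.Omega K ⇑Q') : bc h M ∈ Cfsg.Omega F ⇑Q := by
  have h1 : (commutator (Cfsg.isometryGroup K ⇑Q')).map (bc h) ≤ commutator (Cfsg.isometryGroup F ⇑Q) := by
    rw [commutator_def, Subgroup.map_commutator, commutator_def]
    exact Subgroup.commutator_mono le_top le_top
  exact h1 ⟨M, hM, rfl⟩

/-! ### Field automorphisms -/

/-- Entrywise field automorphisms. -/
def sg (F : Type*) [Field F] (ι : Type) : RingAut F →* Equiv.Perm (ι → F) where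
  toFun σ :=
    { toFun := fun v i => σ (v i)
      invFun := fun v i => σ.symm (v i)
      left_inv := fun v => by funext i; exact σ.symm_apply_apply _
      right_inv := fun v => by funext i; exact σ.apply_symm_apply _ }
  map_one' := rfl
  map_mul' _ _ := rfl

theorem sg_apply (σ : RingAut F) (v : ι → F) (i : ι) : sg F ι σ v i = σ (v i) := rfl

theorem sg_injective [Nonempty ι] : Function.Injective (sg F ι) := by
  intro σ τ h
  obtain ⟨i⟩ := ‹Nonempty ι›
  apply RingEquiv.ext
  intro x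
  exact congrFun (Equiv.ext_iff.1 h (fun _ => x)) i

/-- `Q` is defined over the fixed field of `σ`. -/
def Rat (Q : QuadraticForm F (ι → F)) (σ : RingAut F) : Prop := ∀ v, Q (sg F ι σ v) = σ (Q v)

theorem isSS_sg {σ : RingAut F} (h : Rat Q σ) : IsSS Q σ 1 (sg F ι σ) := by
  refine ⟨one_ne_zero, fun u v => ?_, fun a v => ?_, fun v => ?_⟩
  · funext i
    exact map_add σ _ _
  · funext i
    exact map_mul σ _ _
  · rw [one_mul]
    exact h v

theorem Rat.pow {σ : RingAut F} (h : Rat Q σ) (k : ℕ) : Rat Q (σ ^ k) := by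
  induction k with
  | zero => intro v; rfl
  | succ k ih =>
    intro v
    rw [pow_succ, map_mul]
    show Q (sg F ι (σ ^ k) (sg F ι σ v)) = (σ ^ k) (σ (Q v))
    rw [ih, h]

theorem comm_sg (h : Ext Q Q') {σ : RingAut F} (hK : ∀ x, x ∈ K ↔ σ x = x) (M : Cfsg.isometryGroup K ⇑Q') :
    Commute (lp F (ι → F) (isoL Q (bc h M))) (sg F ι σ) := by
  ext v i
  show Matrix.mulVec (M.1.1.map K.subtype) (fun j => σ (v j)) i = σ (Matrix.mulVec (M.1.1.map K.subtype) v i)
  rw [Matrix.mulVec, Matrix.mulVec, dotProduct, dotProduct, map_sum]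
  refine Finset.sum_congr rfl fun j _ => ?_
  rw [map_mul]
  congr 1
  exact ((hK _).1 (M.1.1 i j).2).symm

section

variable [Fintype F] [CharP F 2] {X : Subgroup (Equiv.Perm (ι → F))}

/-- **Base change** (E). -/
theorem Hyp.elt (hX : Hyp Q X) [Nonempty ι] {σ : RingAut F} {s N : ℕ} (ho : orderOf σ = s) (hσ : sg F ι σ ∈ X)
    (hK : ∀ x, x ∈ K ↔ σ x = x) (h : Ext Q Q') (hN : Nat.Coprime N s) {g : Cfsg.isometryGroup K ⇑Q'}
    (hg : g ∈ Cfsg.Omega K ⇑Q') (hgo : orderOf g = N) : ∃ y ∈ Om Q, orderOf y = N * s := by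
  have e1 : orderOf (lp F (ι → F) (isoL Q (bc h g))) = N := by
    rw [orderOf_injective _ lp_injective, orderOf_injective _ isoL_injective, orderOf_injective _ (bc_injective h), hgo]
  have e2 : orderOf (sg F ι σ) = s := by rw [orderOf_injective _ sg_injective, ho]
  have h1 := (comm_sg h hK g).orderOf_mul_eq_mul_orderOf_of_coprime (by rw [e1, e2]; exact hN)
  obtain ⟨y, hy, hyo⟩ := hX.ord _ (X.mul_mem (hX.le ⟨_, ⟨_, bc_mem h hg, rfl⟩, rfl⟩) hσ)
  exact ⟨y, hy, by rw [hyo, h1, e1, e2]⟩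

/-- Semilinear elements of `X` of odd prime order give entrywise field automorphisms. -/
theorem Hyp.sg_mem (hX : Hyp Q X) (hQ : (polarBilin Q).Nondegenerate) (h5 : 5 ≤ Fintype.card ι) (hev : Even (Fintype.card ι))
    (hG : Good Q) {σ : RingAut F} (ho : Odd (orderOf σ)) (hR : Rat Q σ) {M : Equiv.Perm (ι → F)} (hM : M ∈ X)
    (hMs : IsSS Q σ 1 M) : sg F ι σ ∈ X := by
  obtain ⟨g, hg, rfl⟩ := H231.OutB.exists_lin hMs (isSS_sg hR)
  by_cases hgO : g ∈ Om Q
  · have h1 : lp F (ι → F) g ∈ X := hX.le ⟨g, hgO, rfl⟩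
    exact (X.mul_mem_cancel_left h1).1 hM
  · -- the square
    set τ : Gam Q := ⟨sg F ι σ, σ, 1, isSS_sg hR⟩ with hτ
    set g' := conjLin τ g with hg'
    have e1 : ∀ v, g' (sg F ι σ v) = sg F ι σ (g v) := conjLin_apply' τ g
    have hg'Q : g' ∈ OQ (⇑Q) := by
      intro v
      obtain ⟨w, rfl⟩ := (sg F ι σ).surjective v
      rw [e1, hR, hR, hg w]
    have hg'O : g' ∉ Om Q := by
      intro h
      rw [Om_eq hG] at h
      have h1 := conjLin_mem_E τ⁻¹ h
      rw [hg', ← conjLin_mul_left, inv_mul_cancel, conjLin_one_left, ← Om_eq hG] at h1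
      exact hgO h1
    have hgg : g * g' ∈ Om Q := by
      rw [H231.OutB.mul_mem_Om_iff hQ h5 hg hg'Q]
      exact ⟨fun h => absurd h hgO, fun h => absurd h hg'O⟩
    have h2 : (lp F (ι → F) g * sg F ι σ) * (lp F (ι → F) g * sg F ι σ) = lp F (ι → F) (g * g') * sg F ι (σ ^ 2) := by
      ext1 v
      show g (sg F ι σ (g (sg F ι σ v))) = g (g' (sg F ι (σ ^ 2) v))
      rw [← e1]
      rfl
    have h3 : sg F ι (σ ^ 2) ∈ X := by
      have h4 := X.mul_mem hM hM
      rw [h2] at h4
      exact (X.mul_mem_cancel_left (hX.le ⟨_, hgg, rfl⟩)).1 h4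
    obtain ⟨k, hk⟩ := ho
    have h5 : σ = (σ ^ 2) ^ (k + 1) := by
      rw [← pow_mul, show 2 * (k + 1) = orderOf σ + 1 by omega, pow_succ, pow_orderOf_eq_one, one_mul]
    rw [h5, map_pow]
    exact X.pow_mem h3 _

/-- **The reduction.** -/
theorem outOk_of (hQ : (polarBilin Q).Nondegenerate) (h5 : 5 ≤ Fintype.card ι) (hev : Even (Fintype.card ι))
    (hG : Good Q) (hR : ∀ σ : RingAut F, Odd (orderOf σ) → Rat Q σ)
    (hGl : ∀ X : Subgroup (Equiv.Perm (ι → F)), Hyp Q X → ∀ g ∈ OQ (⇑Q), lp F (ι → F) g ∈ X → g ∈ Om Q)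
    (hB : ∀ X : Subgroup (Equiv.Perm (ι → F)), Hyp Q X → ∀ σ : RingAut F, orderOf σ = 2 → ∀ M ∈ X, ¬ IsSS Q σ 1 M)
    (hF : ∀ X : Subgroup (Equiv.Perm (ι → F)), Hyp Q X → ∀ (σ : RingAut F) (s : ℕ), s.Prime → s ≠ 2 → orderOf σ = s →
      sg F ι σ ∈ X → False) : OutOk Q := by
  intro X hX M hM
  obtain ⟨σ, hσ⟩ := hX.semi hM
  have hfin : Finite (RingAut F) := Finite.of_injective (fun τ : RingAut F => (τ : F → F)) DFunLike.coe_injective
  have hpow : ∀ k : ℕ, ∃ τ : RingAut F, τ = (σ : RingAut F) ^ k ∧ IsSS Q τ 1 (M ^ k) := by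
    intro k
    refine ⟨(σ : RingAut F) ^ k, rfl, ?_⟩
    induction k with
    | zero =>
      exact ⟨one_ne_zero, fun _ _ => rfl, fun _ _ => rfl, fun _ => by rw [one_mul]; rfl⟩
    | succ k ih =>
      have h1 := ih.mul hσ
      rw [map_one, mul_one] at h1
      rw [pow_succ, pow_succ]
      exact h1
  have h1 : (σ : RingAut F) = 1 := by
    by_contra hne
    have ho : orderOf (σ : RingAut F) ≠ 1 := fun h => hne (orderOf_eq_one_iff.1 h)
    obtain ⟨s, hs, k, hk⟩ := Nat.exists_prime_and_dvd ho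
    have hpos := orderOf_pos (σ : RingAut F)
    have hk0 : k ≠ 0 := by rintro rfl; rw [mul_zero] at hk; omega
    have hord : orderOf ((σ : RingAut F) ^ k) = s := by
      rw [orderOf_pow_of_dvd hk0 (by rw [hk]; exact dvd_mul_left _ _), hk, Nat.mul_div_cancel _ (Nat.pos_of_ne_zero hk0)]
    obtain ⟨τ, hτ, hτM⟩ := hpow k
    rw [← hτ] at hord
    by_cases hs2 : s = 2
    · exact hB X hX τ (by rw [hord, hs2]) _ (X.pow_mem hM k) hτM
    · have hodd : Odd (orderOf τ) := by rw [hord]; exact hs.odd_of_ne_two hs2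
      exact hF X hX τ s hs hs2 hord (hX.sg_mem hQ h5 hev hG hodd (hR τ hodd) (X.pow_mem hM k) hτM)
  subst h1
  let g : (ι → F) ≃ₗ[F] (ι → F) :=
    { toFun := M
      invFun := M.symm
      map_add' := hσ.add
      map_smul' := hσ.smul
      left_inv := M.symm_apply_apply
      right_inv := M.apply_symm_apply }
  have hgM : lp F (ι → F) g = M := by ext1 v; rfl
  have hgO : g ∈ OQ (⇑Q) := by
    intro v
    have := hσ.form v
    rw [one_mul] at this
    exact this
  exact ⟨g, hGl X hX g hgO (by rw [hgM]; exact hM), hgM⟩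

end

end Cfsg.Agent.H375.Out
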