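import Mathlib
import Cfsg.Agent.H375.Out.OmBase
import Cfsg.Agent.H375.Out.SpElt
import Cfsg.Agent.H382.SpOm
import Cfsg.Agent.H902.Iso
import Cfsg.Agent.S0287
import Cfsg.Agent.S0288
import Cfsg.Agent.StdRank2.OutField

/-!
# Elements of `Ω(Q)` over the fixed field; the choice of `a, b` (helper375)
-/

set_option autoImplicit false
set_option linter.unusedVariables false
set_option linter.unusedSectionVars false

namespace Cfsg.Agent.H375.Out

open Module Finset QuadraticMap Cfsg Cfsg.Agent.H375.Odd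
open Cfsg.Agent.LieClassical.OrthCount Cfsg.Agent.LieClassical.OmegaReindex Cfsg.Agent.LieClassical
open Cfsg.Agent.ClassicalGeometry

section K

variable {K : Type*} [Field K] [Fintype K] [CharP K 2]

/-- Bigger symplectic groups. -/
theorem exists_sp_up {m n T : ℕ} (hmn : m ≤ n) (hx : ∃ x : Matrix.symplecticGroup (Fin m) K, orderOf x = T) :
    ∃ x : Matrix.symplecticGroup (Fin n) K, orderOf x = T := by
  obtain ⟨x, hx⟩ := hx
  have hfr := frame_plus (F := K) (m := m) (n := n) hmn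
  obtain ⟨g, hg⟩ := exists_spL (g := CovTwo.spHom hfr x) (CovTwo.spHom_form hfr x)
  refine ⟨g, ?_⟩
  rw [← orderOf_injective _ (spL_injective (F := K) (n := n)), hg, orderOf_injective _ (CovTwo.spHom_injective hfr), hx]

variable {ι : Type} [Fintype ι] [DecidableEq ι] {Q : QuadraticForm K (ι → K)}

theorem om_of_pom (hD : H390.Lift.Data Q) {N : ℕ} (x : POmega K (⇑Q)) (hx : orderOf x = N) :
    ∃ g ∈ Cfsg.Omega K (⇑Q), orderOf g = N := by
  refine ⟨(pomE hD x : Cfsg.Omega K (⇑Q)), (pomE hD x).2, ?_⟩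
  rw [Subgroup.orderOf_coe, MulEquiv.orderOf_eq, hx]

/-- **Elements of order `2 ^ c * T`** of `Ω`, from `Sp (2 (n - 1))`. -/
theorem om_sp (hQ : (polarBilin Q).Nondegenerate) (hiso : ∃ u : ι → K, u ≠ 0 ∧ Q u = 0) {n : ℕ} (hι : Fintype.card ι = 2 * n)
    (hn : 4 ≤ n) {m c T : ℕ} (h : m + c + 1 ≤ n) (hc : c ≤ 3) (hT : Odd T)
    (hx : ∃ x : Matrix.symplecticGroup (Fin m) K, orderOf x = T) : ∃ g ∈ Cfsg.Omega K (⇑Q), orderOf g = 2 ^ c * T := by
  have hD := data_two hQ (by omega) hiso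
  obtain ⟨y, hy⟩ := exists_sp_elt (K := K) (m := n - 1 - c) (c := c) (n := n - 1) (by omega) hc hT
    (exists_sp_up (by omega) hx)
  obtain ⟨f, hf⟩ := H382.SpOm.exists_sp_in_omega Q hQ (m := n - 1) (by rw [hι]; omega) (Or.inl (by omega))
  exact om_of_pom hD (f y) (by rw [orderOf_injective f hf, hy])

/-- Elements of odd prime order from the order of the isometry group. -/
theorem om_of_card (hD : H390.Lift.Data Q) {l : ℕ} (hl : l.Prime) (hl2 : l ≠ 2)
    (h : l ∣ Nat.card (Cfsg.isometryGroup K (⇑Q))) : ∃ g ∈ Cfsg.Omega K (⇑Q), orderOf g = l ^ (0 + 1) := by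
  have := Fact.mk hl
  obtain ⟨g, hg⟩ := exists_prime_orderOf_dvd_card' l h
  refine ⟨g, H390.Lift.mem_of_odd _ hD.idx (hl.odd_of_ne_two hl2) ?_, by rw [hg, zero_add, pow_one]⟩
  rw [← hg, pow_orderOf_eq_one]

theorem om_plus_top {n l : ℕ} (hn : 4 ≤ n) (hz : Zs (Fintype.card K) l 0 n) :
    ∃ g ∈ Cfsg.Omega K (⇑(quadPlus n K)), orderOf g = l ^ (0 + 1) := by
  have hD : H390.Lift.Data (quadPlus n K) :=
    data_two quadPlus_nondegenerate (by simp only [Fintype.card_sum, Fintype.card_fin]; omega) (quadPlus_isotropic (by omega))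
  refine om_of_card hD hz.hl hz.hl2 ?_
  rw [coe_quadPlus, S0287.result rfl n (by omega)]
  refine Dvd.dvd.mul_right (Dvd.dvd.mul_left ?_ _) _
  have := (hz.hq n).2 dvd_rfl
  rwa [zero_add, pow_one] at this

theorem om_minus_top {n l : ℕ} (hn : 4 ≤ n) {a b : K}
    (hab : ∀ z₁ z₂ : K, z₁ ^ 2 + a * z₁ * z₂ + b * z₂ ^ 2 = 0 → z₁ = 0 ∧ z₂ = 0) (hz : Zs (Fintype.card K) l 0 (2 * n)) :
    ∃ g ∈ Cfsg.Omega K (⇑(quadMinus (n - 1) K a b)), orderOf g = l ^ (0 + 1) := by
  have hD : H390.Lift.Data (quadMinus (n - 1) K a b) :=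
    data_two (quadMinus_nondegenerate hab) (by simp only [Fintype.card_sum, Fintype.card_fin]; omega)
      (quadMinus_isotropic (by omega) a b)
  refine om_of_card hD hz.hl hz.hl2 ?_
  rw [coe_quadMinus, S0288.result rfl n (by omega) a b hab]
  refine Dvd.dvd.mul_right (Dvd.dvd.mul_left ?_ _) _
  have := hz.dvd_add_one Fintype.card_pos (by omega)
  rwa [zero_add, pow_one] at this

end K

/-! ### Forms over the fixed field -/

section F

variable {F : Type*} [Field F] {n : ℕ}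

theorem rat_plus (σ : RingAut F) : Rat (quadPlus n F) σ := by
  intro v
  rw [coe_quadPlus]
  show ∑ i : Fin n, σ (v (.inl i)) * σ (v (.inr i)) = σ (∑ i : Fin n, v (.inl i) * v (.inr i))
  rw [map_sum]
  exact Finset.sum_congr rfl fun i _ => (map_mul σ _ _).symm

theorem rat_minus {σ : RingAut F} {a b : F} (ha : σ a = a) (hb : σ b = b) : Rat (quadMinus n F a b) σ := by
  intro v
  rw [coe_quadMinus]
  show ∑ i : Fin n, σ (v (.inl (.inl i))) * σ (v (.inl (.inr i))) + (σ (v (.inr 0)) ^ 2 +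
      a * σ (v (.inr 0)) * σ (v (.inr 1)) + b * σ (v (.inr 1)) ^ 2) = σ (∑ i : Fin n, v (.inl (.inl i)) * v (.inl (.inr i)) +
      (v (.inr 0) ^ 2 + a * v (.inr 0) * v (.inr 1) + b * v (.inr 1) ^ 2))
  simp only [map_add, map_mul, map_sum, map_pow, ha, hb]

theorem ext_plus (K : Subfield F) : Ext (quadPlus n F) (quadPlus n K) := by
  intro v
  rw [coe_quadPlus, coe_quadPlus]
  show ∑ i : Fin n, (v (.inl i) : F) * (v (.inr i) : F) = ((∑ i : Fin n, v (.inl i) * v (.inr i) : K) : F)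
  push_cast
  rfl

theorem ext_minus {K : Subfield F} (a b : K) : Ext (quadMinus n F (a : F) (b : F)) (quadMinus n K a b) := by
  intro v
  rw [coe_quadMinus, coe_quadMinus]
  show ∑ i : Fin n, (v (.inl (.inl i)) : F) * (v (.inl (.inr i)) : F) + ((v (.inr 0) : F) ^ 2 +
      (a : F) * (v (.inr 0) : F) * (v (.inr 1) : F) + (b : F) * (v (.inr 1) : F) ^ 2) =
      ((∑ i : Fin n, v (.inl (.inl i)) * v (.inl (.inr i)) + (v (.inr 0) ^ 2 + a * v (.inr 0) * v (.inr 1) +
      b * v (.inr 1) ^ 2) : K) : F)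
  push_cast
  rfl

theorem aniso_down {K : Subfield F} {a b : K}
    (hab : ∀ z₁ z₂ : F, z₁ ^ 2 + (a : F) * z₁ * z₂ + (b : F) * z₂ ^ 2 = 0 → z₁ = 0 ∧ z₂ = 0) :
    ∀ z₁ z₂ : K, z₁ ^ 2 + a * z₁ * z₂ + b * z₂ ^ 2 = 0 → z₁ = 0 ∧ z₂ = 0 := by
  intro z₁ z₂ h
  have h1 := hab z₁ z₂ (by exact_mod_cast congrArg (Subtype.val) h)
  exact ⟨Subtype.ext h1.1, Subtype.ext h1.2⟩

variable [Fintype F] [CharP F 2]

/-- **The choice of `b`** : fixed by all automorphisms of odd order. -/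
theorem exists_ab : ∃ b : F, (∀ σ : RingAut F, Odd (orderOf σ) → σ b = b) ∧
    ∀ z₁ z₂ : F, z₁ ^ 2 + 1 * z₁ * z₂ + b * z₂ ^ 2 = 0 → z₁ = 0 ∧ z₂ = 0 := by
  classical
  have h2 : (2 : F) = 0 := CharTwo.two_eq_zero
  -- an element outside of the image of `t ^ 2 + t`
  obtain ⟨b₀, hb₀⟩ : ∃ b₀ : F, ¬ ∃ t : F, t ^ 2 + t = b₀ := by
    by_contra hno
    push Not at hno
    have hinj := Finite.injective_iff_surjective.2 (show Function.Surjective (fun t : F => t ^ 2 + t) from hno)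
    have : (0 : F) = 1 := hinj (by
      show (0 : F) ^ 2 + 0 = 1 ^ 2 + 1
      linear_combination -h2)
    exact zero_ne_one this
  have hfin : Finite (RingAut F) := Finite.of_injective (fun τ : RingAut F => (τ : F → F)) DFunLike.coe_injective
  obtain ⟨φ, hφ⟩ := (StdRank2.OutField.isCyclic (F := F)).exists_generator
  set N := orderOf (φ : RingAut F) with hN
  have hN0 : 0 < N := orderOf_pos (φ : RingAut F)
  obtain ⟨t, m, hm, hNm⟩ := Nat.exists_eq_two_pow_mul_odd hN0.ne'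
  set τ : RingAut F := (φ : RingAut F) ^ 2 ^ t with hτ
  have hτm : τ ^ m = 1 := by rw [hτ, ← pow_mul, ← hNm, hN, pow_orderOf_eq_one]
  have haut : ∀ i : ℕ, ¬ ∃ t : F, t ^ 2 + t = (τ ^ i) b₀ := by
    rintro i ⟨x, hx⟩
    apply hb₀
    refine ⟨(τ ^ i).symm x, ?_⟩
    apply (τ ^ i).injective
    rw [map_add, map_pow, RingEquiv.apply_symm_apply, hx]
  have hsum : ∀ k : ℕ, (Even k → ∃ x : F, x ^ 2 + x = ∑ i ∈ range k, (τ ^ i) b₀) ∧
      (Odd k → ¬ ∃ x : F, x ^ 2 + x = ∑ i ∈ range k, (τ ^ i) b₀) := by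
    intro k
    induction k with
    | zero => exact ⟨fun _ => ⟨0, by simp⟩, fun h => absurd h (by decide)⟩
    | succ k ih =>
      constructor
      · intro hk
        have hk' : Odd k := by
          rw [Nat.even_add_one, Nat.not_even_iff_odd] at hk
          exact hk
        rw [sum_range_succ]
        exact OrthSemiForms.exists_sq_add_self h2 (ih.2 hk') (haut k)
      · rintro hk ⟨x, hx⟩
        have hk' : Even k := by
          rw [Nat.odd_add_one, Nat.not_odd_iff_even] at hk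
          exact hk
        obtain ⟨y, hy⟩ := ih.1 hk'
        rw [sum_range_succ] at hx
        apply haut k
        refine ⟨x + y, ?_⟩
        linear_combination hx - hy + (x * y + y ^ 2 + y) * h2
  refine ⟨∑ i ∈ range m, (τ ^ i) b₀, ?_, ?_⟩
  · -- fixed
    have hfix : τ (∑ i ∈ range m, (τ ^ i) b₀) = ∑ i ∈ range m, (τ ^ i) b₀ := by
      rw [map_sum]
      have e1 : ∀ i, τ ((τ ^ i) b₀) = (τ ^ (i + 1)) b₀ := fun i => by rw [pow_succ']; rfl
      rw [Finset.sum_congr rfl fun i _ => e1 i]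
      have h1 := Finset.sum_range_succ (fun i => (τ ^ i) b₀) m
      have h3 := Finset.sum_range_succ' (fun i => (τ ^ i) b₀) m
      rw [h1] at h3
      simp only [hτm, pow_zero] at h3
      exact (add_right_cancel h3).symm
    intro σ hσ
    obtain ⟨j, hj⟩ := hφ σ
    obtain ⟨j, hj⟩ : ∃ j : ℕ, (φ : RingAut F) ^ j = σ := by
      have := (mem_powers_iff_mem_zpowers (G := RingAut F) (x := φ) (y := σ)).2 ⟨_, hj⟩
      exact this
    have h4 : 2 ^ t ∣ j := by
      have h5 := orderOf_pow (x := (φ : RingAut F)) (n := j)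
      rw [hj, ← hN] at h5
      have h6 : N = N.gcd j * orderOf σ := by
        rw [h5, Nat.mul_div_cancel' (Nat.gcd_dvd_left _ _)]
      have h7 : 2 ^ t ∣ N.gcd j * orderOf σ := by
        rw [← h6, hNm]
        exact dvd_mul_right _ _
      exact ((Nat.Coprime.pow_left t (Nat.coprime_two_left.2 hσ)).dvd_of_dvd_mul_right h7).trans (Nat.gcd_dvd_right _ _)
    obtain ⟨i, rfl⟩ := h4
    rw [← hj, pow_mul, ← hτ]
    clear hj
    induction i with
    | zero => rfl
    | succ i ih =>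
      rw [pow_succ]
      show (τ ^ i) (τ _) = _
      rw [hfix]
      exact ih
  · intro z₁ z₂ h
    rw [one_mul] at h
    have hz2 : z₂ = 0 := by
      by_contra hz
      apply (hsum m).2 hm
      refine ⟨z₁ / z₂, ?_⟩
      field_simp
      linear_combination h - (∑ i ∈ range m, (τ ^ i) b₀) * z₂ ^ 2 * h2
    subst hz2
    refine ⟨?_, rfl⟩
    have : z₁ ^ 2 = 0 := by linear_combination h
    exact pow_eq_zero_iff (two_ne_zero) |>.1 this

/-- Transport to arbitrary `a`, `b`. -/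
theorem autOk_minus_congr {a b a' b' : F}
    (hab : ∀ z₁ z₂ : F, z₁ ^ 2 + a * z₁ * z₂ + b * z₂ ^ 2 = 0 → z₁ = 0 ∧ z₂ = 0)
    (hab' : ∀ z₁ z₂ : F, z₁ ^ 2 + a' * z₁ * z₂ + b' * z₂ ^ 2 = 0 → z₁ = 0 ∧ z₂ = 0)
    (h : H373.Recog.AutOk (POmega F (quadFormMinus n F a b))) : H373.Recog.AutOk (POmega F (quadFormMinus n F a' b')) := by
  obtain ⟨e⟩ := H902.Iso.minus_congr n hab hab'
  exact autOk_congr e h

end F

end Cfsg.Agent.H375.Out
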