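import Mathlib
import Cfsg.Agent.H375.Out.OmElt
import Cfsg.Agent.H375.Out.SpMain
import Cfsg.Agent.H375.Odd.Groups
import Cfsg.Agent.H77.OutNOm
import Cfsg.Agent.H382.OutN

/-!
# Field automorphisms of odd order, plus type (helper375)
-/

set_option autoImplicit false
set_option linter.unusedVariables false
set_option linter.unusedSectionVars false

namespace Cfsg.Agent.H375.Out

open Module Finset QuadraticMap Cfsg Cfsg.Agent.H375.Odd
open Cfsg.Agent.LieClassical.OrthCount Cfsg.Agent.LieClassical.OmegaReindex Cfsg.Agent.LieClassical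

theorem no_neg {s : ℕ} [Fact s.Prime] (hs2 : s ≠ 2) {x : ZMod s} {k : ℕ} (hk : Odd k) (h : x ^ k = 1) (j : ℕ) :
    x ^ j ≠ -1 := by
  intro hj
  have h1 : (x ^ j) ^ k = (x ^ k) ^ j := by rw [← pow_mul, ← pow_mul, mul_comm]
  rw [hj, h, one_pow, hk.neg_one_pow] at h1
  exact one_ne_neg (Fact.out : s.Prime) hs2 h1.symm

theorem d5a : ((2 : ℕ) : ZMod 5) ≠ -1 := by decide
theorem d5b : (-1 : ZMod 5) ≠ 1 := by decide
theorem d5c : (0 : ZMod 5) ^ (6 - 2) ≠ -1 := by decide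
theorem d5d : ∀ y : ZMod 5, y ^ 3 = -1 → y = -1 := by decide

variable {F : Type*} [Field F] [Fintype F] [CharP F 2] {n : ℕ} {X : Subgroup (Equiv.Perm (Fin n ⊕ Fin n → F))}
  {σ : RingAut F} {s : ℕ} {K : Subfield F} [Fintype K] [CharP K 2]

/-- The situation. -/
structure Cx (n : ℕ) (X : Subgroup (Equiv.Perm (Fin n ⊕ Fin n → F))) (σ : RingAut F) (s : ℕ) (K : Subfield F)
    [Fintype K] : Prop where
  hn : 5 ≤ n
  hX : Hyp (quadPlus n F) X
  hs : s.Prime
  hs2 : s ≠ 2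
  ho : orderOf σ = s
  hσ : sg F (Fin n ⊕ Fin n) σ ∈ X
  hK : ∀ x, x ∈ K ↔ σ x = x
  hc : Fintype.card F = Fintype.card K ^ s

theorem card_pl : Fintype.card (Fin n ⊕ Fin n) = 2 * n := by
  rw [Fintype.card_sum, Fintype.card_fin]; ring

theorem Cx.elt (C : Cx n X σ s K) {N : ℕ} (hN : ¬ s ∣ N) {g : Cfsg.isometryGroup K ⇑(quadPlus n K)}
    (hg : g ∈ Cfsg.Omega K ⇑(quadPlus n K)) (hgo : orderOf g = N) : ∃ y ∈ Om (quadPlus n F), orderOf y = N * s := by
  have : Nonempty (Fin n ⊕ Fin n) := ⟨.inl ⟨0, by have := C.hn; omega⟩⟩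
  exact C.hX.elt C.ho C.hσ C.hK (ext_plus K) (Nat.coprime_comm.1 ((Nat.Prime.coprime_iff_not_dvd C.hs).2 hN)) hg hgo

theorem not_dvd_two_pow {s : ℕ} (hs : s.Prime) (hs2 : s ≠ 2) (c : ℕ) : ¬ s ∣ 2 ^ c := fun h =>
  hs2 ((Nat.prime_dvd_prime_iff_eq hs Nat.prime_two).1 (hs.dvd_of_dvd_pow h))

theorem Cx.get (C : Cx n X σ s K) {η c e l a M : ℕ} (hz : Zs (Fintype.card K) l a e)
    (hB : (Odd η ∧ e = η ∧ M = Fintype.card F ^ η - 1) ∨ (2 ≤ η ∧ e = 2 * η ∧ M = Fintype.card F ^ η + 1))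
    (h : η + c + 1 ≤ n) (hc3 : c ≤ 3) (hsη : ¬ s ∣ η) (hsM : ¬ s ∣ M)
    (hx : ∃ x : Matrix.symplecticGroup (Fin η) K, orderOf x = l ^ (a + 1)) :
    Blk (Fintype.card F) l a e η M ∧ ∃ y ∈ Om (quadPlus n F), orderOf y = 2 ^ c * (s * l ^ (a + 1)) := by
  have hs := C.hs
  have hs2 := C.hs2
  have hn := C.hn
  have hes : Nat.Coprime e s := by
    rw [Nat.coprime_comm, Nat.Prime.coprime_iff_not_dvd hs]
    rcases hB with ⟨-, h1, -⟩ | ⟨-, h1, -⟩
    · rw [h1]; exact hsη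
    · rw [h1, hs.dvd_mul]
      rintro (h2 | h2)
      · exact hs2 ((Nat.prime_dvd_prime_iff_eq hs Nat.prime_two).1 h2)
      · exact hsη h2
  have B : Blk (Fintype.card F) l a e η M := ⟨by rw [C.hc]; exact zs_up hz hes, hB⟩
  have hodd : Odd (l ^ (a + 1)) := (hz.hl.odd_of_ne_two hz.hl2).pow
  obtain ⟨g, hg, hgo⟩ := om_sp (K := K) (Q := quadPlus n K) quadPlus_nondegenerate (quadPlus_isotropic (by omega))
    card_pl (by omega) h hc3 hodd hx
  obtain ⟨y, hy, hyo⟩ := C.elt (N := 2 ^ c * l ^ (a + 1)) (by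
    rw [hs.dvd_mul]
    rintro (h1 | h1)
    · exact not_dvd_two_pow hs hs2 c h1
    · exact hsM (h1.trans B.dvd)) hg hgo
  exact ⟨B, y, hy, by rw [hyo]; ring⟩

/-- Minus-type tori. -/
theorem Cx.getm (C : Cx n X σ s K) {η c : ℕ} (hη : 2 ≤ η) (h : η + c + 1 ≤ n) (hc3 : c ≤ 3) (hsη : ¬ s ∣ η)
    (hx : ((Fintype.card F : ℕ) : ZMod s) ^ η ≠ -1) : ∃ l a, Blk (Fintype.card F) l a (2 * η) η (Fintype.card F ^ η + 1) ∧
      ¬ s ∣ Fintype.card F ^ η + 1 ∧ ∃ y ∈ Om (quadPlus n F), orderOf y = 2 ^ c * (s * l ^ (a + 1)) := by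
  obtain ⟨l, a, hz, hx'⟩ := torus_minus (K := K) hη
  have hsM : ¬ s ∣ Fintype.card F ^ η + 1 := fun h => hx ((dvd_add_iff _).1 h)
  obtain ⟨B, hy⟩ := C.get hz (Or.inr ⟨hη, rfl, rfl⟩) h hc3 hsη hsM hx'
  exact ⟨l, a, B, hsM, hy⟩

/-- Plus-type tori. -/
theorem Cx.getp (C : Cx n X σ s K) {η c : ℕ} (hη : 2 ≤ η) (hodd : Odd η) (h : η + c + 1 ≤ n) (hc3 : c ≤ 3) (hsη : ¬ s ∣ η)
    (hx : ((Fintype.card F : ℕ) : ZMod s) ^ η ≠ 1) : ∃ l a, Blk (Fintype.card F) l a η η (Fintype.card F ^ η - 1) ∧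
      ¬ s ∣ Fintype.card F ^ η - 1 ∧ ∃ y ∈ Om (quadPlus n F), orderOf y = 2 ^ c * (s * l ^ (a + 1)) := by
  obtain ⟨l, a, hz, hx'⟩ := torus_plus (K := K) hη hodd
  have hsM : ¬ s ∣ Fintype.card F ^ η - 1 := fun h => hx ((dvd_sub_iff Fintype.card_pos _).1 h)
  obtain ⟨B, hy⟩ := C.get hz (Or.inl ⟨hodd, rfl, rfl⟩) h hc3 hsη hsM hx'
  exact ⟨l, a, B, hsM, hy⟩

theorem Cx.k1m (C : Cx n X σ s K) {η : ℕ} (hη : 2 ≤ η) (h : η + 1 = n) (hsη : ¬ s ∣ η)
    (hx : ((Fintype.card F : ℕ) : ZMod s) ^ η ≠ -1) (hx1 : ((Fintype.card F : ℕ) : ZMod s) ≠ -1) : False := by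
  classical
  obtain ⟨l, a, B, hsM, y, hy, hyo⟩ := C.getm (c := 0) hη (by omega) (by omega) hsη hx
  obtain ⟨ψ, hψ⟩ := exists_psi (F := F)
  rcases H77.OutNOm.n1 hψ (Q := quadPlus n F) quadPlus_nondegenerate B (by rw [card_pl, h]) hη (Or.inl rfl)
    (by rw [GS_plus hψ, h, one_mul]) C.hs C.hs2 hy (by rw [hyo, pow_zero, one_mul]) with h1 | h1
  · exact hsM h1
  · apply hx1
    rw [H77.OutN.sg, if_neg (by omega)] at h1
    have h2 := (ZMod.intCast_zmod_eq_zero_iff_dvd _ s).2 h1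
    push_cast at h2
    linear_combination -h2

theorem Cx.k1p (C : Cx n X σ s K) {η : ℕ} (hη : 2 ≤ η) (hodd : Odd η) (h : η + 1 = n) (hsη : ¬ s ∣ η)
    (hx : ((Fintype.card F : ℕ) : ZMod s) ^ η ≠ 1) : False := by
  classical
  obtain ⟨l, a, B, hsM, y, hy, hyo⟩ := C.getp (c := 0) hη hodd (by omega) (by omega) hsη hx
  obtain ⟨ψ, hψ⟩ := exists_psi (F := F)
  rcases H77.OutNOm.n1 hψ (Q := quadPlus n F) quadPlus_nondegenerate B (by rw [card_pl, h]) hη (Or.inl rfl)
    (by rw [GS_plus hψ, h, one_mul]) C.hs C.hs2 hy (by rw [hyo, pow_zero, one_mul]) with h1 | h1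
  · exact hsM h1
  · apply hx
    rw [H77.OutN.sg, if_pos rfl] at h1
    have h2 := (ZMod.intCast_zmod_eq_zero_iff_dvd _ s).2 h1
    push_cast at h2
    have h3 : ((Fintype.card F : ℕ) : ZMod s) = 1 := by linear_combination h2
    rw [h3, one_pow]

theorem Cx.k2m (C : Cx n X σ s K) {η : ℕ} (hη : 3 ≤ η) (h : η + 2 = n) (hsη : ¬ s ∣ η)
    (hx : ((Fintype.card F : ℕ) : ZMod s) ^ η ≠ -1) : False := by
  classical
  obtain ⟨l, a, B, hsM, y, hy, hyo⟩ := C.getm (c := 1) (by omega) (by omega) (by omega) hsη hx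
  obtain ⟨ψ, hψ⟩ := exists_psi (F := F)
  exact H77.OutNOm.n2 hψ (Q := quadPlus n F) quadPlus_nondegenerate B (by rw [card_pl, h]) hη (Or.inl rfl)
    (by rw [GS_plus hψ, h, one_mul]) C.hs C.hs2 hsM (Or.inr (by rw [H77.OutN.sg, if_neg (by omega)])) hy
    (by rw [hyo, pow_one])

theorem Cx.k3p (C : Cx n X σ s K) {η : ℕ} (hη : 2 ≤ η) (hodd : Odd η) (h : η + 4 = n) (hsη : ¬ s ∣ η)
    (hx : ((Fintype.card F : ℕ) : ZMod s) ^ η ≠ 1) : False := by
  obtain ⟨l, a, B, hsM, y, hy, hyo⟩ := C.getp (c := 3) hη hodd (by omega) (by omega) hsη hx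
  exact H382.Out.n3 (Q := quadPlus n F) quadPlus_nondegenerate card_pl B h hη C.hs C.hs2
    ((Nat.Prime.coprime_iff_not_dvd C.hs).2 hsM) hy hyo

theorem Cx.k4p (C : Cx n X σ s K) {η : ℕ} (hη : 4 ≤ η) (hodd : Odd η) (h : η + 3 = n) (hsη : ¬ s ∣ η)
    (hx : ((Fintype.card F : ℕ) : ZMod s) ^ η ≠ 1) (hx2 : ((Fintype.card F : ℕ) : ZMod s) ^ 2 ≠ 1) : False := by
  obtain ⟨l, a, B, hsM, y, hy, hyo⟩ := C.getp (c := 1) (by omega) hodd (by omega) (by omega) hsη hx
  exact H382.Out.n4 (Q := quadPlus n F) quadPlus_nondegenerate card_pl B h hη C.hs C.hs2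
    ((Nat.Prime.coprime_iff_not_dvd C.hs).2 hsM) (fun h => hx2 ((dvd_sub_iff Fintype.card_pos _).1 h)) hy (by rw [hyo, pow_one])

theorem Cx.k0p (C : Cx n X σ s K) (hodd : Odd n) (hsn : ¬ s ∣ n)
    (hx : ((Fintype.card F : ℕ) : ZMod s) ^ n ≠ 1) : False := by
  have hn := C.hn
  obtain ⟨l, hz⟩ := exists_zs (F := K) (e := n) (by omega) (by
    rintro ⟨-, h⟩
    rw [h] at hodd
    exact absurd hodd (by decide))
  obtain ⟨g, hg, hgo⟩ := om_plus_top (K := K) (n := n) (by omega) hz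
  have B : Blk (Fintype.card F) l 0 n n (Fintype.card F ^ n - 1) := ⟨by
    rw [C.hc]
    exact zs_up hz (Nat.coprime_comm.1 ((Nat.Prime.coprime_iff_not_dvd C.hs).2 hsn)), Or.inl ⟨hodd, rfl, rfl⟩⟩
  have hsM : ¬ s ∣ Fintype.card F ^ n - 1 := fun h => hx ((dvd_sub_iff Fintype.card_pos _).1 h)
  obtain ⟨y, hy, hyo⟩ := C.elt (N := l ^ (0 + 1)) (fun h1 => hsM (h1.trans B.dvd)) hg hgo
  refine nm_gen (β := polarBilin (quadPlus n F)) (alt_of quadPlus_nondegenerate) (c := 0) B ?_ ?_ (by norm_num) C.hs C.hs2 hsM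
    (OQ_le (qf_of _) (Om_le hy)) ?_
  · rw [finrank_fintype_fun_eq_card, card_pl, add_zero]
  · rw [finrank_fintype_fun_eq_card, card_pl]; omega
  · rw [hyo, pow_zero, one_mul, mul_comm]

theorem Cx.k5 (C : Cx n X σ s K) (h5 : n = 5) (hs5 : s = 5) (hx : ((Fintype.card F : ℕ) : ZMod s) = -1) : False := by
  subst h5
  subst hs5
  have := Fact.mk Nat.prime_five
  have hq0 : ((Fintype.card K : ℕ) : ZMod 5) = -1 := by
    rw [← hx, C.hc, Nat.cast_pow, ZMod.pow_card]
  have hne : Fintype.card K - 1 ≠ 1 := by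
    intro h
    have h1 : Fintype.card K = 2 := by omega
    rw [h1] at hq0
    exact d5a hq0
  obtain ⟨l, hl, hlq⟩ := Nat.exists_prime_and_dvd hne
  have hq1 : 1 < Fintype.card K := Fintype.one_lt_card
  have hl2 : l ≠ 2 := by
    rintro rfl
    have h1 := even_pow_card (F := K) (m := 1) one_pos
    rw [pow_one] at h1
    have h2 : Odd (Fintype.card K - 1) := Nat.Even.sub_odd (by omega) h1 odd_one
    exact (Nat.not_even_iff_odd.2 h2) (even_iff_two_dvd.2 hlq)
  have hl5 : ¬ 5 ∣ l := by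
    intro h
    have h1 := (dvd_sub_iff' (by omega)).1 ((Nat.dvd_trans h hlq))
    rw [hq0] at h1
    exact d5b h1
  have := Fact.mk hl
  obtain ⟨x, hx1⟩ : ∃ x : Matrix.symplecticGroup (Fin 1) K, orderOf x = l := by
    apply exists_prime_orderOf_dvd_card'
    rw [LieClassical.SympCount.card_symplecticGroup (F := K) 1]
    refine dvd_mul_of_dvd_right ?_ _
    refine dvd_trans ?_ (Finset.dvd_prod_of_mem _ (Finset.mem_range.2 (show 0 < 1 by omega)))
    exact hlq.trans (sub_one_dvd _ _)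
  obtain ⟨g, hg, hgo⟩ := om_sp (K := K) (Q := quadPlus 5 K) quadPlus_nondegenerate (quadPlus_isotropic (by omega))
    card_pl (by omega) (m := 1) (c := 3) (by omega) le_rfl (hl.odd_of_ne_two hl2) ⟨x, hx1⟩
  obtain ⟨y, hy, hyo⟩ := C.elt (N := 2 ^ 3 * l) (by
    rw [Nat.prime_five.dvd_mul]
    rintro (h | h)
    · exact absurd h (by decide)
    · exact hl5 h) hg hgo
  refine H382.Out.n5 (Q := quadPlus 5 F) quadPlus_nondegenerate card_pl hl Nat.prime_five ?_ ?_ hy (by rw [hyo]; ring)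
  · refine hlq.trans ?_
    rw [C.hc]
    exact sub_one_dvd _ _
  · rw [dvd_add_iff']
    exact hx

/-- **(F), plus type.** -/
theorem outF_plus (hn : 5 ≤ n) (hX : Hyp (quadPlus n F) X) (hs : s.Prime) (hs2 : s ≠ 2) (ho : orderOf σ = s)
    (hσ : sg F (Fin n ⊕ Fin n) σ ∈ X) : False := by
  classical
  obtain ⟨K, hK, hc⟩ := exists_fixed σ
  have : Fintype K := Fintype.ofFinite K
  have : CharP K 2 := inferInstance
  have C : Cx n X σ s K := ⟨hn, hX, hs, hs2, ho, hσ, hK, fixed_card ho hc⟩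
  have hF := Fact.mk hs
  set x : ZMod s := ((Fintype.card F : ℕ) : ZMod s) with hx
  have hnot : ∀ m : ℕ, m ≤ 2 → 0 < m → ¬ s ∣ m := by
    intro m h1 h2 h3
    have h4 := Nat.le_of_dvd h2 h3
    have h5 := hs.two_le
    exact hs2 (by omega)
  have hne := one_ne_neg hs hs2
  rcases Nat.even_or_odd n with he | hodd
  · obtain ⟨k, hk⟩ := he
    by_cases h1 : s ∣ n - 1
    · have h2 : ¬ s ∣ n - 2 := by
        intro h3
        have h4 := Nat.dvd_sub h1 h3
        exact hnot _ (by omega) (by omega) h4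
      by_cases h3 : x ^ (n - 2) = -1
      · have hx2 : x ^ 2 ≠ 1 := by
          intro h4
          rw [show n - 2 = 2 * (k - 1) by omega, pow_mul, h4, one_pow] at h3
          exact hne h3
        have h6 : n ≠ 6 := by
          rintro rfl
          have h5 : s = 5 := (Nat.prime_dvd_prime_iff_eq hs Nat.prime_five).1 h1
          subst h5
          have h7 : x ≠ 0 := by
            intro h0
            rw [h0] at h3
            exact d5c h3
          have h8 : x ^ 4 = 1 := ZMod.pow_card_sub_one_eq_one h7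
          rw [h8] at h3
          exact hne h3
        refine C.k4p (η := n - 3) (by omega) ⟨k - 2, by omega⟩ (by omega) ?_ ?_ hx2
        · intro h5
          have h4 := Nat.dvd_sub h1 h5
          exact hnot _ (by omega) (by omega) h4
        · intro h5
          apply hx2
          have h7 : x ^ (n - 2) = x ^ (n - 3) * x := by rw [← pow_succ]; congr 1; omega
          rw [← hx] at h5
          rw [h7, h5, one_mul] at h3
          rw [h3]
          ring
      · exact C.k2m (η := n - 2) (by omega) (by omega) h2 h3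
    · by_cases h3 : x ^ (n - 1) = 1
      · have hodd : Odd (n - 1) := ⟨k - 1, by omega⟩
        refine C.k1m (η := n - 1) (by omega) (by omega) h1 (no_neg hs2 hodd h3 _) ?_
        have := no_neg hs2 hodd h3 1
        rwa [pow_one] at this
      · exact C.k1p (η := n - 1) (by omega) ⟨k - 1, by omega⟩ (by omega) h1 h3
  · by_cases h1 : x ^ n = 1
    · by_cases h2 : s ∣ n - 2
      · refine C.k1m (η := n - 1) (by omega) (by omega) ?_ (no_neg hs2 hodd h1 _) ?_
        · intro h3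
          have h4 := Nat.dvd_sub h3 h2
          exact hnot _ (by omega) (by omega) h4
        · have := no_neg hs2 hodd h1 1
          rwa [pow_one] at this
      · exact C.k2m (η := n - 2) (by omega) (by omega) h2 (no_neg hs2 hodd h1 _)
    · by_cases h2 : s ∣ n
      · by_cases h3 : x ^ (n - 2) = -1
        · obtain ⟨k, hk⟩ := hodd
          by_cases h5 : n = 5
          · subst h5
            have h6 : s = 5 := (Nat.prime_dvd_prime_iff_eq hs Nat.prime_five).1 h2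
            subst h6
            refine C.k5 rfl rfl ?_
            exact d5d _ h3
          · refine C.k3p (η := n - 4) (by omega) ⟨k - 2, by omega⟩ (by omega) ?_ ?_
            · intro h4
              have h6 := Nat.dvd_sub h2 h4
              rw [show n - (n - 4) = 2 ^ 2 by omega] at h6
              exact not_dvd_two_pow hs hs2 2 h6
            · intro h4
              rw [← hx] at h4
              have h7 : x ^ (n - 2) = x ^ (n - 4) * x ^ 2 := by rw [← pow_add]; congr 1; omega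
              rw [h7, h4, one_mul] at h3
              rw [show n - 4 = 2 * (k - 2) + 1 by omega, pow_add, pow_mul, h3, pow_one] at h4
              have h8 : x ^ 2 = 1 := by
                have h9 : ((-1 : ZMod s) ^ (k - 2) * x) ^ 2 = 1 := by rw [h4, one_pow]
                rw [mul_pow, ← pow_mul, mul_comm (k - 2) 2, pow_mul, neg_one_sq, one_pow, one_mul] at h9
                exact h9
              rw [h8] at h3
              exact hne h3
        · refine C.k2m (η := n - 2) (by omega) (by omega) ?_ h3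
          intro h4
          have h6 := Nat.dvd_sub h2 h4
          exact hnot _ (by omega) (by omega) h6
      · exact C.k0p hodd h2 h1

end Cfsg.Agent.H375.Out
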