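import Mathlib
import Cfsg.Agent.H375.Out.OmPlus
import Cfsg.Agent.H228.Out.Lin

/-!
# `AutOk (PΩ⁺ (2n, q))`, `n ≥ 5`, `q` even (helper375)
-/

set_option autoImplicit false
set_option linter.unusedVariables false
set_option linter.unusedSectionVars false

namespace Cfsg.Agent.H375.Out

open Module Finset QuadraticMap Cfsg Cfsg.Agent.H375.Odd
open Cfsg.Agent.LieClassical.OrthCount Cfsg.Agent.LieClassical.OmegaReindex Cfsg.Agent.LieClassical
open Cfsg.Agent.ClassicalGeometry

variable {F : Type*} [Field F] [Fintype F] [CharP F 2] {n : ℕ}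

theorem order_two {σ : RingAut F} (ho : orderOf σ = 2) : (∃ x, σ x ≠ x) ∧ ∀ x, σ (σ x) = x := by
  constructor
  · by_contra hno
    push Not at hno
    have : σ = 1 := RingEquiv.ext hno
    rw [this, orderOf_one] at ho
    omega
  · intro x
    have h1 : σ ^ 2 = 1 := by rw [← ho, pow_orderOf_eq_one]
    have h2 : (σ ^ 2) x = x := by rw [h1]; rfl
    exact h2

theorem outOk_plus (hn : 5 ≤ n) : OutOk (quadPlus n F) := by
  have hG : LieClassical.OrthTrans.Good (quadPlus n F) := by
    rw [← plus_eq, AutOrth.Main.plusForm_eq]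
    exact AutOrth.Main.good_plus (by omega)
  refine outOk_of quadPlus_nondegenerate (by rw [card_pl]; omega) (by rw [card_pl]; exact even_two_mul n) hG
    (fun σ _ => rat_plus σ) ?_ ?_ ?_
  · intro X hX g hg hgX
    exact H228.Out.gi_lin quadPlus_nondegenerate (quadPlus_isotropic (by omega)) (by omega) card_pl hX hg hgX
  · intro X hX σ ho M hM hMs
    obtain ⟨h1, h2⟩ := order_two ho
    exact H231.OutB.plus hn hX h1 h2 hM hMs
  · intro X hX σ s hs hs2 ho hσ
    exact outF_plus hn hX hs hs2 ho hσ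

/-- **Outer automorphisms of `PΩ⁺ (2n, q)`, `n ≥ 5`, `q` even.** -/
theorem autOk_plus_even (hn : 5 ≤ n) : H373.Recog.AutOk (POmega F (quadFormPlus n F)) := autOk_plus hn (outOk_plus hn)

end Cfsg.Agent.H375.Out
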